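import Groth.Agent.Lib.CechInj.Basic
import Mathlib.CategoryTheory.Limits.Preserves.Shapes.Products
import Mathlib.Algebra.Homology.HomologicalComplex

/-!
# Čech complexes along a functor preserving fibre products
-/

set_option autoImplicit false
set_option backward.isDefEq.respectTransparency false
set_option backward.isDefEq.respectTransparency.types false

universe w v u v' u'

open CategoryTheory Limits Opposite

noncomputable section

namespace GrothLib.CechPush18

open GrothLib.CechInj

variable {C : Type u} [Category.{v} C] {U : C} [HasFiniteProducts (Over U)]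
  {D : Type u'} [Category.{v'} D] (G : C ⥤ D) [HasFiniteProducts (Over (G.obj U))]
  [PreservesFiniteLimits (Over.post G (X := U))]
  {ι : Type w} (Y : ι → Over U) (P : Dᵒᵖ ⥤ AddCommGrpCat.{w})

/-- The transported family. -/
abbrev img : ι → Over (G.obj U) := fun i => (Over.post G).obj (Y i)

/-- The comparison of products. -/
abbrev cmp {n : ℕ} (a : Fin (n + 1) → ι) : (Over.post G).obj (obj Y a) ⟶ obj (img G Y) a :=
  piComparison (Over.post G) fun k => Y (a k)

instance isIso_cmp {n : ℕ} (a : Fin (n + 1) → ι) : IsIso (cmp G Y a) := by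
  haveI : PreservesLimitsOfShape (Discrete (Fin (n + 1))) (Over.post G (X := U)) :=
    inferInstance
  infer_instance

theorem cmp_proj {n : ℕ} (a : Fin (n + 2) → ι) (k : Fin (n + 2)) :
    cmp G Y a ≫ proj (img G Y) a k =
      (Over.post G).map (proj Y a k) ≫ cmp G Y fun l => a (k.succAbove l) := by
  refine Pi.hom_ext _ _ fun l => ?_
  simp only [Category.assoc, piComparison, proj, Pi.lift_π, ← Functor.map_comp]

/-- The comparison in degree `n`. -/
def hom_f (n : ℕ) : (EtCech.cechComplex (img G Y) P).X n ⟶ (EtCech.cechComplex Y (G.op ⋙ P)).X n :=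
  Pi.lift fun a => ev (img G Y) P a ≫ P.map (cmp G Y a).left.op

theorem hom_f_ev (n : ℕ) (a : Fin (n + 1) → ι) :
    hom_f G Y P n ≫ ev Y (G.op ⋙ P) a = ev (img G Y) P a ≫ P.map (cmp G Y a).left.op :=
  Pi.lift_π _ _

theorem isIso_hom_f (n : ℕ) : IsIso (hom_f G Y P n) := by
  haveI : ∀ a : Fin (n + 1) → ι, IsIso (P.map (cmp G Y a).left.op) := fun a => inferInstance
  exact inferInstanceAs (IsIso (Limits.Pi.map fun a : Fin (n + 1) → ι => P.map (cmp G Y a).left.op))

/-- The comparison map of Čech complexes. -/
def hom : EtCech.cechComplex (img G Y) P ⟶ EtCech.cechComplex Y (G.op ⋙ P) where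
  f := hom_f G Y P
  comm' i j hij := by
    obtain rfl : i + 1 = j := hij
    ext x
    refine ev_ext Y (G.op ⋙ P) fun a => ?_
    have he : ∀ (m : ℕ) (b : Fin (m + 1) → ι) (z : (EtCech.cechComplex (img G Y) P).X m),
        ev Y (G.op ⋙ P) b (hom_f G Y P m z) = P.map (cmp G Y b).left.op (ev (img G Y) P b z) :=
      fun m b z => ConcreteCategory.congr_hom (hom_f_ev G Y P m b) z
    show ev Y (G.op ⋙ P) a ((EtCech.cechComplex Y (G.op ⋙ P)).d i (i + 1) (hom_f G Y P i x)) =
      ev Y (G.op ⋙ P) a (hom_f G Y P (i + 1) ((EtCech.cechComplex (img G Y) P).d i (i + 1) x))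
    rw [ev_d, he, ev_d, map_sum]
    refine Finset.sum_congr rfl fun k _ => ?_
    rw [map_zsmul, he]
    congr 1
    show P.map (G.map (proj Y a k).left).op (P.map (cmp G Y _).left.op _) =
      P.map (cmp G Y a).left.op (P.map (proj (img G Y) a k).left.op _)
    have key := congrArg (fun m : (Over.post G).obj (obj Y a) ⟶ _ => P.map (Quiver.Hom.op m.left))
      (cmp_proj G Y a k)
    simp only [Over.comp_left, op_comp, P.map_comp] at key
    exact (ConcreteCategory.congr_hom key _).symm

/-- The two Čech complexes agree. -/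
def iso : EtCech.cechComplex (img G Y) P ≅ EtCech.cechComplex Y (G.op ⋙ P) :=
  haveI : ∀ n, IsIso ((hom G Y P).f n) := isIso_hom_f G Y P
  haveI : IsIso (hom G Y P) := HomologicalComplex.Hom.isIso_of_components _
  asIso (hom G Y P)

end GrothLib.CechPush18
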